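import Cfsg.Agent.MCX.C1
import Cfsg.Agent.E2Q.Bas

/-! Type (a): fusion of 5-elements. -/

set_option autoImplicit false
set_option linter.unusedSectionVars false

namespace Cfsg.Agent.MCX

open Subgroup

variable {S : Type*} [Group S] [Finite S] {P : Sylow 5 S} {z : S}
variable {D : Subgroup S} {h a x : S}

theorem c4_zp {v w : S} (ha : orderOf v = 5) (hw : w ∈ zpowers v) (h1 : w ≠ 1) :
    zpowers w = zpowers v := by
  have h2 : orderOf w = 5 := by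
    have := orderOf_dvd_of_mem_zpowers hw
    rw [ha] at this
    exact ((Nat.dvd_prime (by norm_num)).1 this).resolve_left fun e => h1 (orderOf_eq_one_iff.1 e)
  exact eq_of_le_of_card_ge (zpowers_le_of_mem hw) (by rw [Nat.card_zpowers, Nat.card_zpowers, ha, h2])

theorem c4_card (g u : S) : Nat.card (Cz (g * u * g⁻¹)) = Nat.card (Cz u) := by
  have : Cz (g * u * g⁻¹) = cj g (Cz u) := by
    ext y
    rw [a4_Cz_conj, mem_cj]
  rw [this]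
  exact card_map_of_injective (MulAut.conj g).injective

theorem Fb.c4_cz (F : Fb P z D h a x) (g : S) : Cz (g * z * g⁻¹) = ((g • P : Sylow 5 S) : Subgroup S) := by
  ext y
  rw [a4_Cz_conj, a4_mem, F.cz]

theorem Fb.c4_zD (F : Fb P z D h a x) {u : S} (huD : u ∉ D) : u ∉ zpowers z :=
  fun e => huD (zpowers_le_of_mem (F.st.zD F.hD) e)

theorem Fb.c4_ne {u : S} (huD : u ∉ D) : zpowers u ⊔ zpowers z ≠ D :=
  fun e => huD (e ▸ mem_sup_left (mem_zpowers u))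

theorem Fb.c4_le (F : Fb P z D h a x) {u : S} (hu : u ∈ (P : Subgroup S)) :
    zpowers u ⊔ zpowers z ≤ Cz u :=
  sup_le (zpowers_le_of_mem (mem_Cz.2 rfl)) (zpowers_le_of_mem (mem_Cz.2 (F.st.zc u hu).symm))

theorem Fb.c4_nm (F : Fb P z D h a x) {s : S} (hs : s ∈ (P : Subgroup S)) {e : ℕ}
    (he : h * s * h⁻¹ = s ^ e) : h ∈ Nm (zpowers s ⊔ zpowers z) := by
  refine mem_normalizer_fintype fun v hv => ?_
  obtain ⟨i, j, rfl⟩ := F.st.mem_D hs hv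
  have : h * (s ^ i * z ^ j) * h⁻¹ = (h * s * h⁻¹) ^ i * (h * z * h⁻¹) ^ j := by
    rw [conj_pow, conj_pow]; group
  rw [this, he, F.hz]
  exact mul_mem (mem_sup_left (pow_mem (pow_mem (mem_zpowers s) e) i))
    (mem_sup_right (pow_mem (pow_mem (mem_zpowers z) 2) j))

theorem Fb.c4_mod (F : Fb P z D h a x) {M : Subgroup S} (hM : IsD P M) (hh : h ∈ Nm M) {t : S}
    (ht : t ∈ (P : Subgroup S)) (htM : t ∉ M) {c : ℕ} (hc : h * t * h⁻¹ = t ^ c) {u y : S} {k n : ℕ}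
    (hu : u ∈ (P : Subgroup S)) (huM : u ∉ M) (hy : y ∈ (P : Subgroup S))
    (e : (y * h ^ k) * u * (y * h ^ k)⁻¹ = u ^ n) : n ≡ c ^ k [MOD 5] := by
  have hP := F.st.Dnorm hM
  let φ := QuotientGroup.mk' (M.subgroupOf (Nm M))
  have k1 : ∀ v (hv : v ∈ (P : Subgroup S)), ∃ i : ℕ, φ ⟨v, hP hv⟩ = φ ⟨t, hP ht⟩ ^ i := by
    intro v hv
    obtain ⟨i, d, hd, rfl⟩ := F.st.Dmax hM ht htM hv
    have h1 : φ ⟨d, le_normalizer hd⟩ = 1 := (QuotientGroup.eq_one_iff _).2 hd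
    exact ⟨i, by rw [← mul_one (φ ⟨t, hP ht⟩ ^ i), ← h1, ← map_pow, ← map_mul]; rfl⟩
  have k2 : φ ⟨h, hh⟩ * φ ⟨t, hP ht⟩ * (φ ⟨h, hh⟩)⁻¹ = φ ⟨t, hP ht⟩ ^ c := by
    rw [← map_inv, ← map_mul, ← map_mul, ← map_pow]
    exact congrArg φ (Subtype.ext hc)
  have k3 : φ ⟨y, hP hy⟩ * φ ⟨h, hh⟩ ^ k * φ ⟨u, hP hu⟩ * (φ ⟨y, hP hy⟩ * φ ⟨h, hh⟩ ^ k)⁻¹ =
      φ ⟨u, hP hu⟩ ^ n := by
    rw [← map_pow, ← map_mul, ← map_inv, ← map_mul, ← map_mul, ← map_pow]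
    exact congrArg φ (Subtype.ext e)
  have k4 : orderOf (φ ⟨u, hP hu⟩) = 5 := by
    refine orderOf_eq_prime ?_ fun e =>
      huM ((QuotientGroup.eq_one_iff (N := M.subgroupOf (Nm M)) ⟨u, hP hu⟩).1 e)
    rw [← map_pow, ← map_one φ]
    exact congrArg φ (Subtype.ext (F.st.pow5 hu))
  obtain ⟨i, hi⟩ := k1 u hu
  obtain ⟨j, hj⟩ := k1 y hy
  rw [← k4, ← pow_eq_pow_iff_modEq, ← k3, hi, hj]
  generalize φ ⟨h, hh⟩ = H at k2
  generalize φ ⟨t, hP ht⟩ = T at k2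
  have k5 : ∀ k : ℕ, H ^ k * T * (H ^ k)⁻¹ = T ^ c ^ k := by
    intro k
    induction k with
    | zero => simp
    | succ k ih =>
      calc H ^ (k + 1) * T * (H ^ (k + 1))⁻¹ = H * (H ^ k * T * (H ^ k)⁻¹) * H⁻¹ := by group
        _ = _ := by rw [ih, ← conj_pow, k2, ← pow_mul, pow_succ']
  calc T ^ j * H ^ k * T ^ i * (T ^ j * H ^ k)⁻¹ = T ^ j * (H ^ k * T * (H ^ k)⁻¹) ^ i * (T ^ j)⁻¹ := by
        rw [conj_pow]; group
    _ = _ := by rw [k5]; group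

theorem Fb.c4_x4 (F : Fb P z D h a x) : h * x * h⁻¹ = x ^ 4 := by
  rw [F.hx]
  exact inv_eq_of_mul_eq_one_right (by rw [← pow_succ', F.st.pow5 F.xP])

theorem Fb.c4_hD (F : Fb P z D h a x) : h ∈ Nm D := by
  rw [F.st.Deq F.hD F.aD F.aZ]
  exact F.c4_nm (F.hD.1 F.aD) F.ha

theorem Fb.c4_h2 (F : Fb P z D h a x) : h ^ 2 * x = x * h ^ 2 := by
  have : h ^ 2 * x * (h ^ 2)⁻¹ = x := by
    calc h ^ 2 * x * (h ^ 2)⁻¹ = h * (h * x * h⁻¹) * h⁻¹ := by rw [sq]; group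
      _ = h * x⁻¹ * h⁻¹ := by rw [F.hx]
      _ = (h * x * h⁻¹)⁻¹ := by group
      _ = x := by rw [F.hx, inv_inv]
  exact mul_inv_eq_iff_eq_mul.1 this

/-- for `1 ≠ d ∈ D`, `C(d)` is a Sylow subgroup above `D` (`lines`, `cz`) -/
theorem Fb.czD (F : Fb P z D h a x) {d : S} (hd : d ∈ D) (h1 : d ≠ 1) :
    ∃ Q : Sylow 5 S, Cz d = (Q : Subgroup S) ∧ D ≤ (Q : Subgroup S) ∧ St Q d := by
  obtain ⟨g, hg, hdg⟩ := F.st.lines F.hD F.ta hd h1
  have o : orderOf (g * z * g⁻¹) = 5 := ((MulAut.conj g).orderOf_eq z).trans F.st.oz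
  have e : Cz d = ((g • P : Sylow 5 S) : Subgroup S) := (a4_Cz (c4_zp o hdg h1)).trans (F.c4_cz g)
  have l := a4_le F.hD.1 hg
  obtain ⟨_, -, s⟩ := F.st.other (g • P)
  exact ⟨g • P, e, l, F.st.simple, F.st.card, F.st.om, s.nab, l hd, h1, fun y hy => mem_Cz.1 (e ▸ hy)⟩

theorem Fb.nmE (F : Fb P z D h a x) {E : Subgroup S} (hE : IsD P E) (hne : E ≠ D) :
    Nm E ≤ Nm (P : Subgroup S) := by
  intro g hg
  exact Sylow.smul_eq_iff_mem_normalizer.1 (F.uq E hE hne _ (a4_le hE.1 hg))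

/-- A Sylow 5-subgroup of `C(u)` above `E = ⟨u⟩ ⊔ ⟨z⟩ ≠ D` lies in a Sylow subgroup of `S`, which
is `P` (`uq`), and `C_P(u) = E` (`Dcen`). -/
theorem Fb.sylE (F : Fb P z D h a x) {u : S} (hu : u ∈ (P : Subgroup S)) (huD : u ∉ D) :
    ¬ 125 ∣ Nat.card (Cz u) := by
  intro h125
  have hz := F.c4_zD huD
  have hE := F.st.Dmk hu hz
  obtain ⟨R, hR, hER⟩ := E2Q.Syl.exists_ge (r := 5) (by norm_num) (P.isPGroup'.to_le hE.1) (F.c4_le hu)
  obtain ⟨Q, hQ⟩ := hR.pg.exists_le_sylow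
  have e := F.uq _ hE (Fb.c4_ne huD) Q (hER.trans hQ)
  subst e
  have h1 : R = zpowers u ⊔ zpowers z := le_antisymm (fun y hy =>
    F.st.Dcen hE (mem_sup_left (mem_zpowers u)) hz (hQ hy) (mem_Cz.1 (hR.le hy))) hER
  have h2 := (R.subgroupOf (Cz u)).index_mul_card
  rw [Nat.card_congr (subgroupOfEquivOfLe hR.le).toEquiv] at h2
  have h3 : Nat.card R = 25 := h1 ▸ hE.2
  have h4 : ¬ 5 ∣ (R.subgroupOf (Cz u)).index := hR.nd
  rw [← h2, h3] at h125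
  omega

theorem Fb.sylE' (F : Fb P z D h a x) {u : S} (hu : u ∈ (P : Subgroup S)) (huD : u ∉ D) :
    zpowers u ⊔ zpowers z ≤ Cz u ∧ ¬ 5 ∣ (zpowers u ⊔ zpowers z).relIndex (Cz u) := by
  refine ⟨F.c4_le hu, fun h5 => F.sylE hu huD ?_⟩
  have h2 := ((zpowers u ⊔ zpowers z).subgroupOf (Cz u)).index_mul_card
  rw [Nat.card_congr (subgroupOfEquivOfLe (F.c4_le hu)).toEquiv, (F.st.Dmk hu (F.c4_zD huD)).2] at h2
  have h4 : 5 ∣ ((zpowers u ⊔ zpowers z).subgroupOf (Cz u)).index := h5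
  rw [← h2]
  omega

/-- conjugates of `z` have centralizers of order 125 -/
theorem Fb.conjz (F : Fb P z D h a x) {g : S} (hg : g * z * g⁻¹ ∈ (P : Subgroup S)) :
    g * z * g⁻¹ ∈ D := by
  by_contra hn
  exact F.sylE hg hn (by rw [F.c4_cz, F.st.cardQ])

/-- `u' = g u g⁻¹ ∉ D` (`czD`, `sylE`). `E^g` and `E' = ⟨u'⟩ ⊔ ⟨z⟩` are Sylow in `C(u')`, so
`E^(c' g) = E'` with `c' ∈ C(u')`; then `P^(c' g) ≥ E'` is `P` (`uq`). -/
theorem Fb.fus (F : Fb P z D h a x) {u g : S} (hu : u ∈ (P : Subgroup S)) (huD : u ∉ D)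
    (hg : g * u * g⁻¹ ∈ (P : Subgroup S)) :
    g * u * g⁻¹ ∉ D ∧ ∃ c ∈ Cz u, g * c ∈ Nm (P : Subgroup S) := by
  have h1 : g * u * g⁻¹ ∉ D := by
    intro hd
    obtain ⟨Q, e, -⟩ := F.czD hd fun e => huD (by rw [conj_eq_one_iff.1 e]; exact one_mem _)
    exact F.sylE hu huD (by rw [← c4_card g, e, F.st.cardQ])
  refine ⟨h1, ?_⟩
  have hE := F.st.Dmk hu (F.c4_zD huD)
  have hE' := F.st.Dmk hg (F.c4_zD h1)
  obtain ⟨k, hk, e⟩ := (⟨P.isPGroup'.to_le hE.1, (F.sylE' hu huD).1, (F.sylE' hu huD).2⟩ :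
    E2Q.Syl 5 _ (Cz u)).conj_into (by norm_num) (R := cj g⁻¹ (zpowers (g * u * g⁻¹) ⊔ zpowers z))
      ((P.isPGroup'.to_le hE'.1).map _) (fun y hy => by
        have := a4_Cz_conj.1 (F.c4_le hg (mem_cj.1 hy))
        simpa [mul_assoc] using this)
  refine ⟨k⁻¹, inv_mem hk, Sylow.smul_eq_iff_mem_normalizer.1 (F.uq _ hE' (Fb.c4_ne h1) _ fun y hy => ?_)⟩
  have := hE.1 (e (g⁻¹ * y * g) (mem_cj.2 (by simpa [mul_assoc] using hy)))
  rw [a4_mem]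
  simpa [mul_assoc] using this

/-- `u = a^i x^l z^m` with `i, l ≢ 0`; `y h^k` acts on `P/Z` as `diag(3^k, (-1)^k)`, which is a
scalar only for `4 ∣ k`. -/
theorem Fb.stab (F : Fb P z D h a x) {u g : S} (hu : u ∈ (P : Subgroup S)) (huD : u ∉ D)
    (huD' : u ∉ zpowers x ⊔ zpowers z) (hg : g ∈ Nm (P : Subgroup S))
    (hc : g * u * g⁻¹ ∈ zpowers u) : g ∈ zpowers u ⊔ zpowers z := by
  obtain ⟨y, hy, k, rfl⟩ := F.nP g hg
  have hz := F.c4_zD huD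
  obtain ⟨n, hn⟩ := (mem_powers_iff_mem_zpowers.2 hc)
  have hX := F.st.Dmk F.xP (F.c4_zD F.xD)
  have haX : a ∉ zpowers x ⊔ zpowers z := fun e =>
    Fb.c4_ne F.xD ((F.st.Deq hX e F.aZ).trans (F.st.Deq F.hD F.aD F.aZ).symm)
  have m1 := F.c4_mod F.hD F.c4_hD F.xP F.xD F.c4_x4 hu huD hy hn.symm
  have m2 := F.c4_mod hX (F.c4_nm F.xP F.c4_x4) (F.hD.1 F.aD) haX F.ha hu huD' hy hn.symm
  have m3 : 4 ^ k ≡ 3 ^ k [MOD 5] := m1.symm.trans m2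
  have k4 : 4 ∣ k := by
    rw [← Nat.div_add_mod k 4, pow_add, pow_add, pow_mul, pow_mul] at m3
    have a1 : (4 ^ 4) ^ (k / 4) ≡ 1 ^ (k / 4) [MOD 5] := Nat.ModEq.pow _ (by decide)
    have a2 : (3 ^ 4) ^ (k / 4) ≡ 1 ^ (k / 4) [MOD 5] := Nat.ModEq.pow _ (by decide)
    have a3 := ((a1.mul_right (4 ^ (k % 4))).symm.trans m3).trans (a2.mul_right (3 ^ (k % 4)))
    rw [one_pow, one_mul, one_mul] at a3
    have : k % 4 < 4 := Nat.mod_lt _ (by norm_num)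
    apply Nat.dvd_of_mod_eq_zero
    generalize k % 4 = r at a3 this
    interval_cases r <;> first | rfl | exact absurd a3 (by decide)
  have e : h ^ k = 1 := orderOf_dvd_iff_pow_eq_one.1 (F.oh ▸ k4)
  rw [e, mul_one] at hc ⊢
  have u1 : u ≠ 1 := fun e => huD (e ▸ one_mem _)
  refine F.st.Dcen (F.st.Dmk hu hz) (mem_sup_left (mem_zpowers u)) hz hy ?_
  by_contra hne
  have w1 : y * u * y⁻¹ * u⁻¹ ≠ 1 := fun e => hne (by
    rwa [mul_inv_eq_one, mul_inv_eq_iff_eq_mul] at e)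
  have e1 := c4_zp (F.st.ord5 hu u1) (mul_mem hc (inv_mem (mem_zpowers u))) w1
  exact hz (zpowers_le_of_mem (F.st.comm_mem hy hu) (e1.symm ▸ mem_zpowers u))

/-- an element of `N(P)` centralizing `x` is `y h^k` with `k` even, `y ∈ C_P(x)` -/
theorem Fb.stabx (F : Fb P z D h a x) {g : S} (hg : g ∈ Nm (P : Subgroup S))
    (hc : g * x = x * g) : ∃ y ∈ zpowers x ⊔ zpowers z, g = y ∨ g = y * h ^ 2 := by
  obtain ⟨y, hy, k, rfl⟩ := F.nP g hg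
  have hz := F.c4_zD F.xD
  have m1 := F.c4_mod (n := 1) (k := k) F.hD F.c4_hD F.xP F.xD F.c4_x4 F.xP F.xD hy
    (by rw [pow_one]; exact mul_inv_eq_iff_eq_mul.2 hc)
  have k2 : k % 4 = 0 ∨ k % 4 = 2 := by
    rw [← Nat.div_add_mod k 4, pow_add, pow_mul] at m1
    have a1 : (4 ^ 4) ^ (k / 4) ≡ 1 ^ (k / 4) [MOD 5] := Nat.ModEq.pow _ (by decide)
    have a3 := m1.trans (a1.mul_right (4 ^ (k % 4)))
    rw [one_pow, one_mul] at a3
    have : k % 4 < 4 := Nat.mod_lt _ (by norm_num)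
    generalize k % 4 = r at a3 this
    interval_cases r <;> first | exact absurd a3 (by decide) | simp
  have e : h ^ k = h ^ (k % 4) := by rw [← F.oh, pow_mod_orderOf]
  rw [e] at hc ⊢
  rcases k2 with k2 | k2 <;> rw [k2] at hc ⊢
  · rw [pow_zero, mul_one] at hc ⊢
    exact ⟨y, F.st.Dcen (F.st.Dmk F.xP hz) (mem_sup_left (mem_zpowers x)) hz hy hc, Or.inl rfl⟩
  · refine ⟨y, F.st.Dcen (F.st.Dmk F.xP hz) (mem_sup_left (mem_zpowers x)) hz hy ?_, Or.inr rfl⟩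
    rw [mul_assoc, F.c4_h2, ← mul_assoc, ← mul_assoc] at hc
    exact mul_right_cancel hc

theorem Fb.card_stabx (F : Fb P z D h a x) :
    Nat.card (Nm (P : Subgroup S) ⊓ Cz x : Subgroup S) = 50 := by
  have hX := F.st.Dmk F.xP (F.c4_zD F.xD)
  have h2 : h ^ 2 ∉ (P : Subgroup S) := by
    intro e
    have := F.st.pow5 e
    rw [← pow_mul, ← orderOf_dvd_iff_pow_eq_one, F.oh] at this
    omega
  have e : ((Nm (P : Subgroup S) ⊓ Cz x : Subgroup S) : Set S) =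
      ((zpowers x ⊔ zpowers z : Subgroup S) : Set S) ∪
        (· * h ^ 2) '' ((zpowers x ⊔ zpowers z : Subgroup S) : Set S) := by
    ext g
    constructor
    · intro hg
      obtain ⟨y, hy, e | e⟩ := F.stabx hg.1 (mem_Cz.1 hg.2)
      · exact Or.inl (e ▸ hy)
      · exact Or.inr ⟨y, hy, e.symm⟩
    · rintro (hg | ⟨y, hy, rfl⟩)
      · exact ⟨le_normalizer (hX.1 hg), F.c4_le F.xP hg⟩
      · exact ⟨mul_mem (le_normalizer (hX.1 hy)) (pow_mem F.hN 2),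
          mul_mem (F.c4_le F.xP hy) (mem_Cz.2 F.c4_h2)⟩
  have c : ((zpowers x ⊔ zpowers z : Subgroup S) : Set S).ncard = 25 := hX.2
  have d : Disjoint ((zpowers x ⊔ zpowers z : Subgroup S) : Set S)
      ((· * h ^ 2) '' (zpowers x ⊔ zpowers z : Subgroup S)) := by
    refine Set.disjoint_left.2 ?_
    rintro _ hg ⟨y, hy, rfl⟩
    exact h2 ((mul_mem_cancel_left (hX.1 hy)).1 (hX.1 hg))
  show ((Nm (P : Subgroup S) ⊓ Cz x : Subgroup S) : Set S).ncard = 50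
  rw [e, Set.ncard_union_eq d, Set.ncard_image_of_injective _ (mul_left_injective _), c]

end Cfsg.Agent.MCX
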