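import Cfsg.Agent.MCX.A2
import Cfsg.Agent.MCX.C4
import Cfsg.Agent.MCX.A5
import Cfsg.Agent.E2Q.Burn
import Cfsg.Agent.E2Q.Bas

/-! Type (a): `C(u) = ⟨u, z⟩` off `D ∪ D'`. -/

set_option autoImplicit false

namespace Cfsg.Agent.MCX

open Subgroup

variable {S : Type*} [Group S] [Finite S] {P : Sylow 5 S} {z : S}
variable {D : Subgroup S} {h a x : S}

theorem c5_rel {A K : Subgroup S} (h : A ≤ K) : A.relIndex K * Nat.card A = Nat.card K := by
  rw [← relIndex_bot_left, ← relIndex_bot_left (H := K), mul_comm, relIndex_mul_relIndex _ _ _ bot_le h]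

omit [Finite S] in
theorem c5_Ce {V : Subgroup S} {g c : S} (hg : g ∈ Nm V) (hc : c ∈ Ce V) : g * c * g⁻¹ ∈ Ce V :=
  mem_Ce.2 fun v hv => by
    have := mem_Ce.1 hc _ ((mem_normalizer_iff''.1 hg v).1 hv)
    calc v * (g * c * g⁻¹) = g * (g⁻¹ * v * g * c) * g⁻¹ := by group
      _ = _ := by rw [this]; group

theorem c5_pow {r j : ℕ} (hr : r = 2 ∨ r = 3) (h1 : r ^ j ∣ 898128000) (h2 : r ^ 4 ∣ r ^ j)
    (h3 : r ^ j ≡ r ^ 4 [MOD 5]) : r ^ j = r ^ 4 := by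
  have : j < 8 := by
    by_contra! c
    have := (pow_dvd_pow r c).trans h1
    rcases hr with rfl | rfl <;> norm_num at this
  unfold Nat.ModEq at h3
  rcases hr with rfl | rfl <;> interval_cases j <;> simp_all

/-- `V` is abelian -/
theorem Fb.c5_ab (F : Fb P z D h a x) {V : Subgroup S} (hn : z ∈ Nm V) {r : ℕ} (hr : r = 2 ∨ r = 3)
    (hc : Nat.card V = r ^ 4) : V ≤ Ce V := by
  have : Fact r.Prime := ⟨by rcases hr with rfl | rfl <;> norm_num⟩
  have pV : IsPGroup r V := IsPGroup.of_card hc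
  have : Nontrivial V := Finite.one_lt_card_iff_nontrivial.1 (by rcases hr with rfl | rfl <;> omega)
  have := pV.center_nontrivial
  obtain ⟨⟨c, hc'⟩, c1⟩ := exists_ne (1 : center V)
  have n1 : Nat.card (V ⊓ Ce V : Subgroup S) ≠ 1 := fun e => c1 (Subtype.ext (Subtype.ext (mem_bot.1
    (card_eq_one.1 e ▸ ⟨c.2, mem_Ce.2 fun y hy => congrArg Subtype.val (mem_center_iff.1 hc' ⟨y, hy⟩)⟩))))
  have m := a5_fix (V ⊓ Ce V) (y := z) (mem_normalizer_fintype fun y hy =>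
    ⟨(mem_normalizer_iff.1 hn y).1 hy.1, c5_Ce hn hy.2⟩) (F.st.pow5 F.st.zP)
  have d1 : Nat.card (V ⊓ Ce V ⊓ Cz z : Subgroup S) ∣ 125 :=
    F.st.cardQ P ▸ card_dvd_of_le (F.cz ▸ inf_le_right)
  have d2 : Nat.card (V ⊓ Ce V ⊓ Cz z : Subgroup S) ∣ r ^ 4 :=
    hc ▸ card_dvd_of_le (inf_le_left.trans inf_le_left)
  rw [Nat.eq_one_of_dvd_coprimes (by rcases hr with rfl | rfl <;> norm_num) d1 d2] at m
  have d3 : Nat.card (V ⊓ Ce V : Subgroup S) ∣ r ^ 4 := hc ▸ card_dvd_of_le inf_le_left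
  have e : Nat.card (V ⊓ Ce V : Subgroup S) = r ^ 4 := by
    obtain ⟨i, hi, e⟩ := (Nat.dvd_prime_pow Fact.out).1 d3
    rw [e] at m n1 ⊢
    unfold Nat.ModEq at m
    rcases hr with rfl | rfl <;> interval_cases i <;> simp_all
  exact (eq_of_le_of_card_ge (inf_le_left : V ⊓ Ce V ≤ V) (by rw [e, hc])).ge.trans inf_le_right

theorem Fb.c5_25 (F : Fb P z D h a x) {V : Subgroup S} (hV : ¬ Nat.card V ∣ 25) :
    ¬ 25 ∣ Nat.card (Ce V) := fun e => by
  obtain ⟨E, hE⟩ := Sylow.exists_subgroup_card_pow_prime (G := Ce V) 5 (n := 2) e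
  have cE : Nat.card (E.map (Ce V).subtype) = 5 ^ 2 := by rw [card_map_of_injective (subtype_injective _), hE]
  have lE := map_subtype_le E
  generalize E.map (Ce V).subtype = A at cE lE
  obtain ⟨k, -, hk⟩ := E2Q.Syl.conj_into (by norm_num) (P := P) (K := ⊤)
    ⟨P.2, le_top, by rw [relIndex_top_right]; exact P.not_dvd_index⟩ (IsPGroup.of_card cE) le_top
  have c : ∀ B : Subgroup S, Nat.card (cj k B) = Nat.card B := fun B =>
    card_map_of_injective (MulAut.conj k).injective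
  have d : IsD P (cj k A) := ⟨by rintro _ ⟨y, hy, rfl⟩; exact hk y hy, (c A).trans cE⟩
  refine hV (c V ▸ d.2 ▸ card_dvd_of_le (le_of_le_of_eq ?_ (F.cD _ d)))
  rintro _ ⟨v, hv, rfl⟩
  refine mem_Ce.2 ?_
  rintro _ ⟨y, hy, rfl⟩
  rw [← map_mul, ← map_mul, mem_Ce.1 (lE hy) v hv]

/-- Key lemma. Let `V` be a nontrivial `r`-group (`r = 2, 3`) with `C(u) = V E`, i.e. `V ≤ C(u)`,
`|C(u)| = 25 |V|`, `|V| = 16` resp. `81`. `⟨u⟩` is Sylow in `C = C(V)` (a subgroup of order 25 of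
`C` is conjugate to some `IsD` subgroup, which is self-centralizing, `cD`), and
`N(⟨u⟩) = C(u)` (`fus`, `stab`). Frattini: `N(V) = C · (N(V) ⊓ C(u))`. `V` is abelian (`z` acts
without fixed points as `C(z) = P`; the centre has order `≡ 1 mod 5`). Burnside in `C`: normal
complement `M ≥ V`; `u` normalizes a Sylow `r`-subgroup `R1 ≥ V` of `M` (their number is prime
to 5; `V` is central in `C`), `C_{R1}(u) = V`, so `|R1| ≡ |V| (mod 5)`, `|R1| ∣ 2^7` resp. `3^6`: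
`R1 = V`. So `|N(V)|_r = |V|`, but `V` is proper in a Sylow `r`-subgroup of `S`. -/
theorem Fb.noV (F : Fb P z D h a x) {u : S} (hu : u ∈ (P : Subgroup S)) (huD : u ∉ D)
    (huD' : u ∉ zpowers x ⊔ zpowers z) {V : Subgroup S} (hV : V ≤ Cz u) (hn : z ∈ Nm V)
    (hc : Nat.card (Cz u) = 25 * Nat.card V) (hr : Nat.card V = 16 ∨ Nat.card V = 81) :
    False := by
  obtain ⟨r, hq, cV⟩ : ∃ r, (r = 2 ∨ r = 3) ∧ Nat.card V = r ^ 4 :=
    hr.elim (fun e => ⟨2, .inl rfl, e⟩) fun e => ⟨3, .inr rfl, e⟩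
  have rp : r.Prime := by rcases hq with rfl | rfl <;> norm_num
  have := Fact.mk rp
  have p5 : Nat.Prime 5 := by norm_num
  have pV : IsPGroup r V := IsPGroup.of_card cV
  have ab := F.c5_ab hn hq cV
  have ou : orderOf u = 5 := F.st.ord5 hu fun e => huD (e ▸ one_mem D)
  have pz : ∀ y : S, orderOf y = 5 → IsPGroup 5 (zpowers y) := fun y hy =>
    IsPGroup.of_card (n := 1) (by rw [Nat.card_zpowers, hy, pow_one])
  have uC : u ∈ Ce V := mem_Ce.2 fun v hv => mem_Cz.1 (hV hv)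
  have key : ∀ w, w * u * w⁻¹ ∈ zpowers u → w ∈ Cz u := fun w hw => by
    obtain ⟨-, c, hc, e⟩ := F.fus hu huD (zpowers_le.2 hu hw)
    refine (mul_mem_cancel_right hc).1 ((F.sylE' hu huD).1 (F.stab hu huD huD' e ?_))
    rwa [mul_assoc w, mem_Cz.1 hc, mul_inv_rev, ← mul_assoc, ← mul_assoc w, mul_inv_cancel_right]
  have sU : E2Q.Syl 5 (zpowers u) (Ce V) := ⟨pz u ou, zpowers_le.2 uC, fun e =>
    F.c5_25 (V := V) (by rw [cV]; rcases hq with rfl | rfl <;> norm_num) (by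
      rw [← c5_rel (zpowers_le.2 uC), Nat.card_zpowers, ou]
      exact Nat.mul_dvd_mul_right e 5)⟩
  obtain ⟨K, k1, k2, k3, k4, -⟩ := E2Q.burn p5 sU fun n _ hn y hy => by
    obtain ⟨i, rfl⟩ := hy
    exact (Commute.zpow_right (mem_Cz.1 (key n ((mem_normalizer_iff.1 hn u).1 (mem_zpowers u)))) i).eq
  have mK : ∀ T : Subgroup S, IsPGroup r T → ∀ g ∈ T, g ∈ Ce V → g ∈ K := fun T hT g hg c => (k3 g c).2 fun e => by
    obtain ⟨i, hi⟩ := hT ⟨g, hg⟩
    have := p5.dvd_of_dvd_pow (e.trans (orderOf_dvd_of_pow_eq_one (congrArg Subtype.val hi)))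
    rcases hq with rfl | rfl <;> norm_num at this
  have VK : V ≤ K := fun v hv => mK V pV v hv (ab hv)
  obtain ⟨R, sR, nR⟩ := E2Q.exists_inv_syl p5 rp sU.pg (sU.le.trans (le_normalizer.trans k4)) k2
  have VR : V ≤ R := fun v hv => by
    obtain ⟨k, hk, e⟩ := sR.conj_into rp pV VK
    have := e v hv
    rwa [← mem_Ce.1 (k1 hk) v hv, mul_inv_cancel_right] at this
  have i25 : V.relIndex (Cz u) = 25 := Nat.eq_of_mul_eq_mul_right Nat.card_pos ((c5_rel hV).trans hc)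
  have sV : E2Q.Syl r V (Cz u) := ⟨pV, hV, by rw [i25]; rcases hq with rfl | rfl <;> norm_num⟩
  have m := a5_fix R (nR (mem_zpowers u)) (F.st.pow5 hu)
  rw [sV.eq_of_le rp (sR.pg.to_le inf_le_left) (le_inf VR hV) inf_le_right, cV] at m
  obtain ⟨j, hj⟩ := sR.pg.exists_card_eq
  have eR : V = R := eq_of_le_of_card_ge VR (by
    rw [hj] at m
    rw [hj, cV, c5_pow hq (hj ▸ F.st.card ▸ card_subgroup_dvd_card R) (hj ▸ cV ▸ card_dvd_of_le VR) m])
  subst eR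
  obtain ⟨T, sT, VT⟩ := E2Q.Syl.exists_ge rp pV (K := Nm V) le_normalizer
  have TV : T ≤ V := fun g hg => by
    have gN := sT.le hg
    obtain ⟨k, hk, e⟩ := sU.conj_into p5 (pz (g * u * g⁻¹) (((MulAut.conj g).orderOf_eq u).trans ou))
      (zpowers_le.2 (c5_Ce gN uC))
    have n1 : k * g ∈ Cz u := key _ (by simpa [mul_assoc] using e _ (mem_zpowers _))
    have kN : k ∈ Nm V := centralizer_le_normalizer _ hk
    have n2 : k * g ∈ Nm V ⊓ Cz u := ⟨mul_mem kN gN, n1⟩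
    have n3 : (k * g) ^ 25 ∈ V := by
      have : (V.subgroupOf (Nm V ⊓ Cz u)).Normal := (normal_subgroupOf_iff_le_normalizer
        (le_inf le_normalizer hV)).2 inf_le_left
      obtain ⟨i, hi⟩ : V.relIndex (Nm V ⊓ Cz u) ∣ 25 :=
        ⟨_, by rw [← i25, relIndex_mul_relIndex _ _ _ (le_inf le_normalizer hV) inf_le_right]⟩
      rw [hi, pow_mul]
      exact pow_mem (pow_index_mem (H := V.subgroupOf (Nm V ⊓ Cz u)) ⟨_, n2⟩) i
    have f : ∀ y : Nm V, V.normalizerMonoidHom y = 1 ↔ y.1 ∈ Ce V := fun y => by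
      rw [← MonoidHom.mem_ker, normalizerMonoidHom_ker, mem_subgroupOf]
    have n4 : V.normalizerMonoidHom ⟨g, gN⟩ ^ 25 = 1 := by
      have := (f ((⟨k, kN⟩ * ⟨g, gN⟩) ^ 25)).2 (ab n3)
      rwa [map_pow, map_mul, (f ⟨k, kN⟩).2 hk, one_mul] at this
    obtain ⟨i, hi⟩ := sT.pg ⟨g, hg⟩
    replace hi : g ^ r ^ i = 1 := congrArg Subtype.val hi
    have n5 : V.normalizerMonoidHom ⟨g, gN⟩ ^ r ^ i = 1 := by
      rw [← map_pow, show (⟨g, gN⟩ : Nm V) ^ r ^ i = 1 from Subtype.ext hi, map_one]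
    have n6 := (f ⟨g, gN⟩).1 (a3_one (Nat.Coprime.pow_right i (by rcases hq with rfl | rfl <;> norm_num)) n4 n5)
    exact (sR.eq_of_le rp (sT.pg.to_le inf_le_left) (le_inf VT VK) inf_le_right).le ⟨hg, mK T sT.pg g hg n6⟩
  obtain rfl := le_antisymm TV VT
  have d := Sylow.prime_pow_dvd_card_normalizer (G := S) (p := r) (n := 4)
    (by rw [F.st.card]; rcases hq with rfl | rfl <;> norm_num) cV
  rw [← c5_rel sT.le, cV, pow_succ'] at d
  exact sT.nd (Nat.dvd_of_mul_dvd_mul_right (pow_pos rp.pos 4) d)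

end Cfsg.Agent.MCX
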