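import Cfsg.Agent.MCX.C5
import Cfsg.Agent.MCX.A1
import Cfsg.Agent.MCX.A5
import Cfsg.Agent.E2Q.Burn

/-! Type (a): `C(u) = ⟨u, z⟩` off `D ∪ D'`, II. -/

set_option autoImplicit false

namespace Cfsg.Agent.MCX

open Subgroup

variable {S : Type*} [Group S] [Finite S] {P : Sylow 5 S} {z : S}
variable {D : Subgroup S} {h a x : S}

theorem c5b_num {r j : ℕ} (hr : r = 2 ∨ r = 3) (hd : r ^ j ∣ 898128000) (hm : r ^ j ≡ 1 [MOD 5]) :
    r ^ j = 1 ∨ r ^ j = 16 ∨ r ^ j = 81 := by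
  have : j < 8 := by
    by_contra! c
    have := (pow_dvd_pow r c).trans hd
    rcases hr with rfl | rfl <;> norm_num at this
  rcases hr with rfl | rfl <;> interval_cases j <;> revert hd hm <;> decide

/-- `E = ⟨u⟩ ⊔ ⟨z⟩` is an abelian Sylow subgroup of `C(u)` with `N_{C(u)}(E) = E` (`nmE`, `stab`).
Burnside: normal complement `O`, `EP O` (`com6`), `z` acts on `O` with trivial fixed points
(`cz`). With `R` from `EP.amb`: if `R ≠ O`, `z` fixes an element of `O \ R` (size prime to 5).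
So `O = R` has order `2^i` or `3^j`, `≡ 1 (mod 5)`, dividing `2^7 3^6`: `1, 16, 81`; `noV`. -/
theorem Fb.czu (F : Fb P z D h a x) {u : S} (hu : u ∈ (P : Subgroup S)) (huD : u ∉ D)
    (huD' : u ∉ zpowers x ⊔ zpowers z) : Cz u = zpowers u ⊔ zpowers z := by
  have st := F.st
  have uz : u ∉ zpowers z := fun e => huD (zpowers_le.2 (st.zD F.hD) e)
  have hE := st.Dmk hu uz
  have uE : u ∈ zpowers u ⊔ zpowers z := mem_sup_left (mem_zpowers u)
  have ne : zpowers u ⊔ zpowers z ≠ D := fun e => huD (e ▸ uE)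
  obtain ⟨le, nd⟩ := F.sylE' hu huD
  obtain ⟨O, OC, -, mO, nO, -, cO⟩ := E2Q.burn (p := 5) (by norm_num)
    ⟨P.isPGroup'.to_le hE.1, le, nd⟩ fun n hn hN w hw => st.Dcomm hE
      (F.stab hu huD huD' (F.nmE hE ne hN) (by
        rw [mem_Cz.1 hn, mul_inv_cancel_right]; exact mem_zpowers u)) hw
  have ou : orderOf u = 5 := st.ord5 hu fun e => uz (e ▸ one_mem _)
  have ep : EP O := fun g hg => st.com6 ou (mem_Cz.1 (OC hg)) ((mO g (OC hg)).1 hg)
  have zO : z ∈ Nm O := nO (le_normalizer (le (mem_sup_right (mem_zpowers z))))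
  have z5 := st.pow5 st.zP
  have fx : (⊥ : Subgroup S) = O ⊓ Cz z := (eq_bot_iff.2 fun g hg => by
    by_contra c
    exact (mO g (OC hg.1)).1 hg.1 (by rw [st.ord5 (F.cz.le hg.2) c])).symm
  have md := a5_fix O zO z5
  rw [← fx, card_bot] at md
  have dv : Nat.card O ∣ 898128000 := st.card ▸ card_subgroup_dvd_card O
  obtain ⟨r, j, hr, e⟩ : ∃ r j, (r = 2 ∨ r = 3) ∧ Nat.card O = r ^ j := by
    rcases ep.amb with ⟨R, h1, h2, h3, h4, h5⟩ | ⟨R, h1, h2, h3, h4, h5⟩
    · obtain ⟨j, e⟩ := a5_core Nat.prime_two Nat.prime_three (by norm_num) (by norm_num) zO z5 fx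
        (by rw [card_bot, mul_one]) h1 h2 h3 h4
        fun g hg k => (ep g hg).resolve_left fun c => k ((h5 g hg).2 c)
      exact ⟨2, j, .inl rfl, e⟩
    · obtain ⟨j, e⟩ := a5_core Nat.prime_three Nat.prime_two (by norm_num) (by norm_num) zO z5 fx
        (by rw [card_bot, mul_one]) h1 h2 h3 h4
        fun g hg k => (ep g hg).resolve_right fun c => k ((h5 g hg).2 c)
      exact ⟨3, j, .inr rfl, e⟩
  have k := c5b_num hr (e ▸ dv) (e ▸ md)
  rw [← e] at k
  rw [hE.2] at cO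
  rcases k with k | k
  · exact (eq_of_le_of_card_ge le (by rw [cO, k, hE.2])).symm
  · exact (F.noV hu huD huD' OC zO (by rw [cO, mul_comm]) k).elim

end Cfsg.Agent.MCX
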