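import Cfsg.Agent.MCX.C5b
import Cfsg.Agent.E2Q.Bas

/-! Type (a): counting conjugates of `z` modulo 125. -/

set_option autoImplicit false

namespace Cfsg.Agent.MCX

open Subgroup

variable {S : Type*} [Group S] [Finite S] {P : Sylow 5 S} {z : S}
variable {D : Subgroup S} {h a x : S}

omit [Finite S] in
theorem c6_free {T : Subgroup S} {C : Set S}
    (hinv : ∀ t ∈ T, ∀ c ∈ C, t * c * t⁻¹ ∈ C)
    (hf : ∀ t ∈ T, ∀ c ∈ C, t * c * t⁻¹ = c → t = 1) : Nat.card T ∣ C.ncard := by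
  let _ : MulAction T C :=
    { smul := fun t c => ⟨(t : S) * c.1 * (t : S)⁻¹, hinv t t.2 c c.2⟩
      one_smul := fun c => Subtype.ext (by
        change ((1 : T) : S) * c.1 * ((1 : T) : S)⁻¹ = c.1
        simp)
      mul_smul := fun a b c => Subtype.ext (by
        change ((a * b : T) : S) * c.1 * ((a * b : T) : S)⁻¹ =
          (a : S) * ((b : S) * c.1 * (b : S)⁻¹) * (a : S)⁻¹
        simp [mul_assoc]) }
  rw [← Nat.card_coe_set_eq, Nat.card_congr (MulAction.selfEquivOrbitsQuotientProd (G := T) (X := C)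
    fun c => (eq_bot_iff_forall _).2 fun t ht =>
      Subtype.ext (hf t t.2 c c.2 (congrArg Subtype.val ht))), Nat.card_prod]
  exact Dvd.intro_left _ rfl

omit [Finite S] in
theorem c6_orb (H : Subgroup S) (v : S) :
    {w | ∃ c ∈ H, c * v * c⁻¹ = w}.ncard * Nat.card (Cz v ⊓ H : Subgroup S) = Nat.card H := by
  let inst : MulAction H S :=
    { smul := fun t c => (t : S) * c * (t : S)⁻¹
      one_smul := fun c => by
        change ((1 : H) : S) * c * ((1 : H) : S)⁻¹ = c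
        simp
      mul_smul := fun a b c => by
        change ((a * b : H) : S) * c * ((a * b : H) : S)⁻¹ =
          (a : S) * ((b : S) * c * (b : S)⁻¹) * (a : S)⁻¹
        simp [mul_assoc] }
  have h1 := @MulAction.index_stabilizer H S _ inst v
  have h2 : @MulAction.stabilizer H S _ inst v = (Cz v).subgroupOf H := by
    ext g
    change (g : S) * v * (g : S)⁻¹ = v ↔ _
    rw [mem_subgroupOf, mem_Cz, mul_inv_eq_iff_eq_mul]
  have h3 : @MulAction.orbit H S inst.toSMul v = {w | ∃ c ∈ H, c * v * c⁻¹ = w} := by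
    ext w
    exact ⟨fun ⟨c, e⟩ => ⟨c, c.2, e⟩, fun ⟨c, hc, e⟩ => ⟨⟨c, hc⟩, e⟩⟩
  rw [h2, h3] at h1
  rw [← h1, ← relIndex_bot_left, ← relIndex_bot_left, mul_comm]
  change _ * (Cz v).relIndex H = _
  rw [← inf_relIndex_right (Cz v) H, relIndex_mul_relIndex _ _ _ bot_le inf_le_right]

/-- conjugates of `z` -/
def c6_om (z w : S) : Prop := ∃ g : S, g * z * g⁻¹ = w

omit [Finite S] in
theorem c6_om_conj {w : S} (hw : c6_om z w) (g : S) : c6_om z (g * w * g⁻¹) := by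
  obtain ⟨k, rfl⟩ := hw
  exact ⟨g * k, by group⟩

theorem Fb.c6_D (F : Fb P z D h a x) {w : S} (hw : c6_om z w) (hP : w ∈ (P : Subgroup S)) :
    w ∈ D := by
  obtain ⟨k, rfl⟩ := hw
  exact F.conjz hP

theorem Fb.c6_cz (F : Fb P z D h a x) {v : S} (hv : v ∈ zpowers z) (h1 : v ≠ 1) :
    Cz v = (P : Subgroup S) := by
  rw [a4_Cz (F.st.chg (F.st.a1a_zle hv) h1 fun g hg => F.st.a1a_zc hv hg).2, F.cz]

theorem Fb.c6_pow (F : Fb P z D h a x) {v : S} (hv : v ∈ zpowers z) (h1 : v ≠ 1) :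
    v = z ∨ v = z ^ 2 ∨ v = h ^ 2 * z * (h ^ 2)⁻¹ ∨ v = h ^ 2 * z ^ 2 * (h ^ 2)⁻¹ := by
  have e4 : h ^ 2 * z * (h ^ 2)⁻¹ = z ^ 4 := by
    rw [show h ^ 2 * z * (h ^ 2)⁻¹ = h * (h * z * h⁻¹) * h⁻¹ by rw [sq]; group, F.hz, ← conj_pow, F.hz,
      ← pow_mul]
  have e5 : z ^ 5 = 1 := F.st.pow5 F.st.zP
  have e3 : h ^ 2 * z ^ 2 * (h ^ 2)⁻¹ = z ^ 3 := by
    rw [← conj_pow, e4, ← pow_mul, show 4 * 2 = 5 + 3 by norm_num, pow_add, e5, one_mul]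
  rw [e3, e4]
  classical
  rw [mem_zpowers_iff_mem_range_orderOf, F.st.oz, Finset.mem_image] at hv
  obtain ⟨i, hi, rfl⟩ := hv
  rw [Finset.mem_range] at hi
  interval_cases i <;> simp_all

theorem Fb.c6_omZ (F : Fb P z D h a x) {v : S} (hv : v ∈ zpowers z) (h1 : v ≠ 1) : c6_om z v := by
  have o1 : c6_om z z := ⟨1, by group⟩
  have o2 : c6_om z (z ^ 2) := ⟨h, F.hz⟩
  rcases F.c6_pow hv h1 with e | e | e | e <;> rw [e]
  exacts [o1, o2, c6_om_conj o1 _, c6_om_conj o2 _]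

theorem Fb.c6_line (F : Fb P z D h a x) {d : S} (hd : d ∈ D) (h1 : d ≠ 1) :
    ∃ g ∈ Nm D, g⁻¹ * d * g ∈ zpowers z ∧ g⁻¹ * d * g ≠ 1 := by
  obtain ⟨g, hg, i, e⟩ := F.st.lines F.hD F.ta hd h1
  refine ⟨g, hg, ⟨i, ?_⟩, fun e1 => h1 ?_⟩
  · simp only at e ⊢
    rw [← e, conj_zpow]; group
  · rw [show d = g * (g⁻¹ * d * g) * g⁻¹ by group, e1]; group

theorem Fb.c6_omD (F : Fb P z D h a x) {d : S} (hd : d ∈ D) (h1 : d ≠ 1) : c6_om z d := by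
  obtain ⟨g, -, hv, hv1⟩ := F.c6_line hd h1
  have := c6_om_conj (F.c6_omZ hv hv1) g
  rwa [show g * (g⁻¹ * d * g) * g⁻¹ = d by group] at this

theorem Fb.c6_comD (F : Fb P z D h a x) {w d : S} (hw : c6_om z w) (hd : d ∈ D) (h1 : d ≠ 1)
    (c : w * d = d * w) : w ∈ D := by
  obtain ⟨g, hg, hv, hv1⟩ := F.c6_line hd h1
  have h2 : g⁻¹ * w * g⁻¹⁻¹ ∈ (P : Subgroup S) := by
    rw [← F.c6_cz hv hv1, mem_Cz]
    calc _ = g⁻¹ * (w * d) * g := by group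
      _ = _ := by rw [c]; group
  have := (mem_normalizer_iff.1 hg _).1 (F.c6_D (c6_om_conj hw _) h2)
  rwa [show g * (g⁻¹ * w * g⁻¹⁻¹) * g⁻¹ = w by group] at this

theorem Fb.c6_xZ (F : Fb P z D h a x) : x ∉ zpowers z := fun e =>
  F.xD ((zpowers_le.2 (F.st.zD F.hD)) e)

theorem Fb.c6_five (F : Fb P z D h a x) :
    {w | c6_om z w ∧ w ∉ D ∧ ∃ u ∈ (P : Subgroup S), u ≠ 1 ∧ u * w * u⁻¹ = w}.ncard =
      5 * {w | c6_om z w ∧ w ∈ Cz x ∧ w ∉ D}.ncard := by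
  have aP : a ∈ (P : Subgroup S) := F.hD.1 F.aD
  obtain ⟨c, hc⟩ : ∃ c, c = a * x * a⁻¹ * x⁻¹ := ⟨_, rfl⟩
  have cZ : c ∈ zpowers z := hc ▸ F.st.comm_mem aP F.xP
  have c1 : c ≠ 1 := fun e => F.xD (F.st.Dcen F.hD F.aD F.aZ F.xP (by
    rw [e, eq_mul_inv_iff_mul_eq, one_mul, eq_mul_inv_iff_mul_eq] at hc
    exact hc))
  have oc : orderOf c = 5 := F.st.ord5 (F.st.a1a_zle cZ) c1
  have cj : ∀ n : ℕ, a ^ n * x * (a ^ n)⁻¹ = x * c ^ n :=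
    a4a_conj (F.st.a1a_zc cZ aP) (by rw [F.st.a1a_zc cZ F.xP, hc]; group)
  have nD : ∀ (n : ℕ) (w : S), a ^ n * w * (a ^ n)⁻¹ ∈ D ↔ w ∈ D := fun n w => by
    rw [mul_mem_cancel_right (inv_mem (pow_mem F.aD n)), mul_mem_cancel_left (pow_mem F.aD n)]
  have com : ∀ (n : ℕ) (w : S), w ∈ Cz x ↔ a ^ n * w * (a ^ n)⁻¹ ∈ Cz (x * c ^ n) := fun n w => by
    rw [← cj, a4_Cz_conj, show (a ^ n)⁻¹ * (a ^ n * w * (a ^ n)⁻¹) * a ^ n = w by group]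
  have x1 : x ≠ 1 := fun e => F.xD (e ▸ one_mem D)
  have key : {w | c6_om z w ∧ w ∉ D ∧ ∃ u ∈ (P : Subgroup S), u ≠ 1 ∧ u * w * u⁻¹ = w} =
      (fun p : ℕ × S => a ^ p.1 * p.2 * (a ^ p.1)⁻¹) ''
        (Set.Iio 5 ×ˢ {w | c6_om z w ∧ w ∈ Cz x ∧ w ∉ D}) := by
    ext W
    constructor
    · rintro ⟨hW, hWD, u, hu, u1, e⟩
      rw [mul_inv_eq_iff_eq_mul] at e
      have uD : u ∉ D := fun hd => hWD (F.c6_comD hW hd u1 e.symm)
      have uD' : u ∈ zpowers x ⊔ zpowers z := by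
        by_contra hn
        have h2 : W ∈ Cz u := mem_Cz.2 e.symm
        rw [F.czu hu uD hn] at h2
        exact hWD (F.c6_D hW ((sup_le (zpowers_le.2 hu) F.st.a1a_zle) h2))
      obtain ⟨i, j, rfl⟩ := F.st.mem_D F.xP uD'
      have ox : orderOf x = 5 := F.st.ord5 F.xP x1
      have i5 : i % 5 ≠ 0 := fun e5 => uD (by
        rw [← pow_mod_orderOf, ox, e5, pow_zero, one_mul]
        exact pow_mem (F.st.zD F.hD) j)
      obtain ⟨n, hn⟩ : ∃ n, i * n % 5 = 1 := by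
        have : i % 5 = 1 ∨ i % 5 = 2 ∨ i % 5 = 3 ∨ i % 5 = 4 := by omega
        rcases this with e | e | e | e
        exacts [⟨1, by omega⟩, ⟨3, by omega⟩, ⟨2, by omega⟩, ⟨4, by omega⟩]
      have hz : (z ^ j) ^ n ∈ zpowers c := by
        rw [(F.st.chg (F.st.a1a_zle cZ) c1 fun g hg => F.st.a1a_zc cZ hg).2]
        exact pow_mem (pow_mem (mem_zpowers z) j) n
      classical
      rw [mem_zpowers_iff_mem_range_orderOf, oc, Finset.mem_image] at hz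
      obtain ⟨k, hk, ek⟩ := hz
      have e2 : (x ^ i * z ^ j) ^ n = x * c ^ k := by
        rw [((show Commute x z from F.st.zc x F.xP).pow_pow i j).mul_pow, ← pow_mul,
          ← pow_mod_orderOf, ox, hn, pow_one, ek]
      have e3 : a ^ k * ((a ^ k)⁻¹ * W * a ^ k) * (a ^ k)⁻¹ = W := by group
      refine ⟨(k, (a ^ k)⁻¹ * W * a ^ k), ⟨Finset.mem_range.1 hk, ?_, ?_, ?_⟩, e3⟩
      · simpa using c6_om_conj hW (a ^ k)⁻¹
      · rw [com k, e3, ← e2, mem_Cz]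
        exact ((show Commute W (x ^ i * z ^ j) from e.symm).pow_right n).eq
      · rwa [← nD k, e3]
    · rintro ⟨⟨k, w⟩, ⟨-, h1, h2, h3⟩, rfl⟩
      refine ⟨c6_om_conj h1 _, fun e => h3 ((nD k w).1 e), a ^ k * x * (a ^ k)⁻¹,
        mul_mem (mul_mem (pow_mem aP k) F.xP) (inv_mem (pow_mem aP k)),
        fun e => x1 (conj_eq_one_iff.1 e), ?_⟩
      rw [mul_inv_eq_iff_eq_mul, cj]
      exact (mem_Cz.1 ((com k w).1 h2)).symm
  rw [key, Set.InjOn.ncard_image, Set.ncard_prod]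
  · simp
  rintro ⟨k, w⟩ ⟨hk, h1, h2, h3⟩ ⟨l, w'⟩ ⟨hl, -, h5, -⟩ e
  simp only at e
  have m1 := (com k w).1 h2
  have m2 := (com l w').1 h5
  rw [← e] at m2
  have ekl : c ^ k = c ^ l := by
    by_contra hne
    have hv : (c ^ k)⁻¹ * c ^ l ∈ zpowers z := mul_mem (inv_mem (pow_mem cZ k)) (pow_mem cZ l)
    have : a ^ k * w * (a ^ k)⁻¹ ∈ Cz ((c ^ k)⁻¹ * c ^ l) := by
      rw [show (c ^ k)⁻¹ * c ^ l = (x * c ^ k)⁻¹ * (x * c ^ l) by group, mem_Cz]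
      exact ((show Commute _ _ from mem_Cz.1 m1).inv_right.mul_right (mem_Cz.1 m2)).eq
    rw [F.c6_cz hv fun e1 => hne (inv_mul_eq_one.1 e1)] at this
    exact h3 ((nD k w).1 (F.c6_D (c6_om_conj h1 _) this))
  obtain rfl : k = l := pow_injOn_Iio_orderOf (x := c) (oc ▸ hk) (oc ▸ hl) ekl
  rw [mul_left_cancel (mul_right_cancel e)]

theorem Fb.c6_tot (F : Fb P z D h a x) : 25 ∣ {w | c6_om z w ∧ w ∈ Cz x ∧ w ∉ D}.ncard := by
  have h1 := c6_orb (⊤ : Subgroup S) z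
  rw [inf_top_eq, F.cz, F.st.cardQ P, card_top, F.st.card] at h1
  have h2 := c6_free (T := (P : Subgroup S))
    (C := {w | c6_om z w ∧ ∀ u ∈ (P : Subgroup S), u * w * u⁻¹ = w → u = 1})
    (fun t ht c hc => ⟨c6_om_conj hc.1 t, fun u hu e => by
      have := hc.2 (t⁻¹ * u * t) (mul_mem (mul_mem (inv_mem ht) hu) ht) (by
        calc _ = t⁻¹ * (u * (t * c * t⁻¹) * u⁻¹) * t := by group
          _ = _ := by rw [e]; group)
      rw [show u = t * (t⁻¹ * u * t) * t⁻¹ by group, this]; group⟩)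
    (fun t ht c hc => hc.2 t ht)
  rw [F.st.cardQ P] at h2
  have h3 : ((D : Set S) \ {1}).ncard + 1 = 25 := by
    rw [Set.ncard_sdiff_singleton_add_one (one_mem D), ← F.hD.2, ← Nat.card_coe_set_eq]; rfl
  have h4 := F.c6_five
  have h5 : {w | ∃ c ∈ (⊤ : Subgroup S), c * z * c⁻¹ = w} =
      ({w | c6_om z w ∧ ∀ u ∈ (P : Subgroup S), u * w * u⁻¹ = w → u = 1} ∪ ((D : Set S) \ {1})) ∪
        {w | c6_om z w ∧ w ∉ D ∧ ∃ u ∈ (P : Subgroup S), u ≠ 1 ∧ u * w * u⁻¹ = w} := by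
    ext w
    constructor
    · rintro ⟨c, -, e⟩
      by_cases hD : w ∈ D
      · exact Or.inl (Or.inr ⟨hD, fun e1 => F.st.z1 (conj_eq_one_iff.1 (e.trans e1))⟩)
      by_cases hf : ∀ u ∈ (P : Subgroup S), u * w * u⁻¹ = w → u = 1
      · exact Or.inl (Or.inl ⟨⟨c, e⟩, hf⟩)
      · push Not at hf
        obtain ⟨u, hu, e1, e2⟩ := hf
        exact Or.inr ⟨⟨c, e⟩, hD, u, hu, e2, e1⟩
    · rintro ((⟨⟨c, e⟩, -⟩ | ⟨hD, h1⟩) | ⟨⟨c, e⟩, -⟩)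
      · exact ⟨c, trivial, e⟩
      · obtain ⟨c, e⟩ := F.c6_omD hD h1
        exact ⟨c, trivial, e⟩
      · exact ⟨c, trivial, e⟩
  rw [h5, Set.ncard_union_eq, Set.ncard_union_eq] at h1
  · omega
  · rw [Set.disjoint_left]
    rintro w ⟨-, hw⟩ ⟨hD, h1⟩
    exact h1 (hw w (F.hD.1 hD) (by group))
  · rw [Set.disjoint_left]
    rintro w (⟨-, hw⟩ | ⟨hD, -⟩) ⟨-, hn, u, hu, u1, e⟩
    · exact u1 (hw u hu e)
    · exact hn hD

/-- `α = [C(x) : N_{C(x)}(D')]` is the number of Sylow 5-subgroups of `C(x)`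
(`N_{C(x)}(D') = N(P) ⊓ C(x)` by `nmE` and `stabx`; order 50). Let `Ω` be the class of `z`,
`|Ω| = |S|/125 = 7185024 ≡ 24 (mod 125)`. `P` acts on `Ω` by conjugation; points with trivial
stabilizer form orbits of size 125. `w ∈ Ω` commuting with `1 ≠ u ∈ P`: `u ∈ D` gives `w ∈ D`
(`czD`; `conjz` inside `C(u) = P^g`, `g ∈ N(D)`); `u ∉ D ∪ D'` gives `w ∈ ⟨u,z⟩ ⊓ D = Z`
(`czu`, `conjz`); `u ∈ D' \ Z`: `⟨u⟩ = ⟨x z^k⟩`, `k = 0..4`, all conjugate under `P`.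
`|Ω ∩ C(x)| = 4 α` (each Sylow subgroup `D'^c` of `C(x)` meets `Ω` in `(Z \ 1)^c`; two of them
meet in `⟨x⟩`, which misses `Ω`), `Ω ∩ C(x) ∩ D = Z \ 1`, and `w` commuting with two of the
`x z^k` lies in `C(D') = D'`, so in `Z`. `D \ 1 ⊆ Ω` (`lines`, `z ~ z²` by `h`). Total:
`24 + 5 (4α - 4) ≡ 24 (mod 125)`. (Alternatively use `cnt 5 3` on Sylow subgroups:
`n5 = 1796256 ≡ 6`, `Q ↔ Z(Q)`.) -/
theorem Fb.alpha (F : Fb P z D h a x) :
    ∃ α : ℕ, Nat.card (Cz x) = 50 * α ∧ α ≡ 1 [MOD 25] := by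
  obtain ⟨α, hα⟩ : 50 ∣ Nat.card (Cz x) := F.card_stabx ▸ card_dvd_of_le inf_le_right
  refine ⟨α, hα, ?_⟩
  have hD' := F.st.Dmk F.xP F.c6_xZ
  have xD' : x ∈ zpowers x ⊔ zpowers z := mem_sup_left (mem_zpowers x)
  have inf := F.st.Dinf F.hD hD' fun e => F.xD (e ▸ xD')
  have PC : (P : Subgroup S) ⊓ Cz x = zpowers x ⊔ zpowers z :=
    le_antisymm (fun y hy => F.st.Dcen hD' xD' F.c6_xZ hy.1 (mem_Cz.1 hy.2))
      fun y hy => ⟨hD'.1 hy, mem_Cz.2 (F.st.Dcomm hD' hy xD')⟩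
  have z2 : z ^ 2 ≠ 1 := fun e => by
    have := orderOf_dvd_of_pow_eq_one e
    rw [F.st.oz] at this
    omega
  have z2Z : z ^ 2 ∈ zpowers z := pow_mem (mem_zpowers z) 2
  have o1 := c6_orb (Cz x) z
  have o2 := c6_orb (Cz x) (z ^ 2)
  rw [F.cz, PC, hD'.2, hα] at o1
  rw [F.c6_cz z2Z z2, PC, hD'.2, hα] at o2
  have h2 : h ^ 2 ∈ Cz x := by
    rw [mem_Cz, ← mul_inv_eq_iff_eq_mul,
      show h ^ 2 * x * (h ^ 2)⁻¹ = h * (h * x * h⁻¹) * h⁻¹ by rw [sq]; group, F.hx, ← conj_inv, F.hx, inv_inv]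
  have ZC : zpowers z ≤ Cz x := fun v hv => mem_Cz.2 (F.st.a1a_zc hv F.xP).symm
  have h3 : ((zpowers z : Set S) \ {1}).ncard + 1 = 5 := by
    rw [Set.ncard_sdiff_singleton_add_one (one_mem _), ← F.st.a1a_cz, ← Nat.card_coe_set_eq]; rfl
  have key : {w | ∃ c ∈ Cz x, c * z * c⁻¹ = w} ∪ {w | ∃ c ∈ Cz x, c * z ^ 2 * c⁻¹ = w} =
      {w | c6_om z w ∧ w ∈ Cz x ∧ w ∉ D} ∪ ((zpowers z : Set S) \ {1}) := by
    have k1 : ∀ c ∈ Cz x, ∀ v ∈ zpowers z, v ≠ 1 → c * v * c⁻¹ ∈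
        {w | c6_om z w ∧ w ∈ Cz x ∧ w ∉ D} ∪ ((zpowers z : Set S) \ {1}) := by
      intro c hc v hv v1
      have m : c * v * c⁻¹ ∈ Cz x := mul_mem (mul_mem hc (ZC hv)) (inv_mem hc)
      by_cases hD : c * v * c⁻¹ ∈ D
      · exact Or.inr ⟨inf.le ⟨hD, PC.le ⟨F.hD.1 hD, m⟩⟩, fun e => v1 (conj_eq_one_iff.1 e)⟩
      · exact Or.inl ⟨c6_om_conj (F.c6_omZ hv v1) c, m, hD⟩
    have k2 : ∀ w, c6_om z w → w ∈ Cz x → w ∈
        {w | ∃ c ∈ Cz x, c * z * c⁻¹ = w} ∪ {w | ∃ c ∈ Cz x, c * z ^ 2 * c⁻¹ = w} := by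
      intro w hw hx
      have w5 : w ^ 5 = 1 := by
        obtain ⟨g, rfl⟩ := hw
        rw [conj_pow, F.st.pow5 F.st.zP]; group
      have w1 : w ≠ 1 := by
        obtain ⟨g, rfl⟩ := hw
        exact fun e => F.st.z1 (conj_eq_one_iff.1 e)
      have sy : E2Q.Syl 5 (zpowers x ⊔ zpowers z) (Cz x) :=
        ⟨P.isPGroup'.to_le hD'.1, (F.sylE' F.xP F.xD).1, (F.sylE' F.xP F.xD).2⟩
      obtain ⟨c, hc, e⟩ := sy.conj_into (by norm_num) (R := zpowers w)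
        (IsPGroup.of_card (n := 1) (by rw [Nat.card_zpowers, pow_one, orderOf_eq_prime w5 w1]))
        (zpowers_le.2 hx)
      have e1 := e w (mem_zpowers w)
      have e2 : c * w * c⁻¹ ∈ zpowers z := inf.le ⟨F.c6_D (c6_om_conj hw c) (hD'.1 e1), e1⟩
      have e3 : w = c⁻¹ * (c * w * c⁻¹) * c := by group
      rcases F.c6_pow e2 fun e => w1 (conj_eq_one_iff.1 e) with e4 | e4 | e4 | e4 <;> rw [e4] at e3
      · exact Or.inl ⟨c⁻¹, inv_mem hc, by rw [e3]; group⟩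
      · exact Or.inr ⟨c⁻¹, inv_mem hc, by rw [e3]; group⟩
      · exact Or.inl ⟨c⁻¹ * h ^ 2, mul_mem (inv_mem hc) h2, by rw [e3]; group⟩
      · exact Or.inr ⟨c⁻¹ * h ^ 2, mul_mem (inv_mem hc) h2, by rw [e3]; group⟩
    ext w
    constructor
    · rintro (⟨c, hc, rfl⟩ | ⟨c, hc, rfl⟩)
      · exact k1 c hc z (mem_zpowers z) F.st.z1
      · exact k1 c hc _ z2Z z2
    · rintro (⟨h4, h5, -⟩ | ⟨h4, h5⟩)
      · exact k2 w h4 h5
      · exact k2 w (F.c6_omZ h4 h5) (ZC h4)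
  have cnt := congrArg Set.ncard key
  have h25 := F.c6_tot
  rw [Set.ncard_union_eq, Set.ncard_union_eq] at cnt
  · unfold Nat.ModEq
    omega
  · rw [Set.disjoint_left]
    rintro w ⟨-, -, hw⟩ ⟨hz, -⟩
    exact hw ((zpowers_le.2 (F.st.zD F.hD)) hz)
  · rw [Set.disjoint_left]
    rintro w ⟨c, hc, rfl⟩ ⟨c', hc', e⟩
    have e1 : c'⁻¹ * c * z * (c'⁻¹ * c)⁻¹ = z ^ 2 := by
      calc _ = c'⁻¹ * (c * z * c⁻¹) * c' := by group
        _ = _ := by rw [← e]; group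
    have gC : c'⁻¹ * c ∈ Cz x := mul_mem (inv_mem hc') hc
    generalize c'⁻¹ * c = g at e1 gC
    have gN : g ∈ Nm (P : Subgroup S) := mem_normalizer_iff.2 fun y => by
      conv_rhs => rw [← F.c6_cz z2Z z2, ← e1, a4_Cz_conj, F.cz]
      rw [show g⁻¹ * (g * y * g⁻¹) * g = y by group]
    obtain ⟨y, hy, e2⟩ := F.stabx gN (mem_Cz.1 gC)
    have yz : ∀ n : ℕ, y * z ^ n * y⁻¹ = z ^ n := fun n => by
      rw [F.st.a1a_zc (pow_mem (mem_zpowers z) n) (hD'.1 hy)]; group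
    rcases e2 with rfl | rfl
    · have := yz 1
      rw [pow_one, e1, sq] at this
      exact F.st.z1 (by simpa using this)
    · have e4 : h ^ 2 * z * (h ^ 2)⁻¹ = z ^ 4 := by
        rw [show h ^ 2 * z * (h ^ 2)⁻¹ = h * (h * z * h⁻¹) * h⁻¹ by rw [sq]; group, F.hz, ← conj_pow, F.hz,
          ← pow_mul]
      rw [show y * h ^ 2 * z * (y * h ^ 2)⁻¹ = y * (h ^ 2 * z * (h ^ 2)⁻¹) * y⁻¹ by group, e4, yz,
        show 4 = 2 + 2 by norm_num, pow_add] at e1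
      exact z2 (by simpa using e1)

end Cfsg.Agent.MCX
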