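import Cfsg.Agent.MCX.A9a
import Cfsg.Agent.MCX.C6
import Cfsg.Agent.MCX.C4
import Cfsg.Agent.MCX.A5
import Cfsg.Agent.MCX.A5b

/-! Type (a): `C(x) ≤ N(P)`. -/

set_option autoImplicit false

namespace Cfsg.Agent.MCX

open Subgroup

variable {S : Type*} [Group S] [Finite S] {P : Sylow 5 S} {z : S}
variable {D : Subgroup S} {h a x : S}

theorem c7_syl (p : ℕ) [Fact p.Prime] {M : Subgroup S} {n : ℕ} (h : p ^ n ∣ Nat.card M) :
    ∃ W : Subgroup S, W ≤ M ∧ Nat.card W = p ^ n := by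
  obtain ⟨W0, h0⟩ := Sylow.exists_subgroup_card_pow_prime (G := M) p h
  exact ⟨W0.map M.subtype, map_subtype_le _, by
    rw [card_map_of_injective (Subgroup.subtype_injective _), h0]⟩

theorem c7_alpha {α : ℕ} (hd : 50 * α ∣ 2 ^ 7 * 3 ^ 6 * 5 ^ 3) (hm : α ≡ 1 [MOD 25]) :
    α = 1 ∨ α = 576 ∨ α = 7776 := by
  unfold Nat.ModEq at hm
  have h1 : α ∣ 2 ^ 6 * 3 ^ 6 * 5 := Nat.dvd_of_mul_dvd_mul_left (by norm_num : 0 < 50) (by simpa using hd)
  have h2 : α ∣ 2 ^ 6 * 3 ^ 6 := Nat.Coprime.dvd_of_dvd_mul_right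
    ((Nat.Prime.coprime_iff_not_dvd (by norm_num : Nat.Prime 5)).2 (by omega)).symm h1
  obtain ⟨k, l, hk, hl, rfl⟩ := (Nat.dvd_mul).1 h2
  obtain ⟨i, hi, rfl⟩ := (Nat.dvd_prime_pow Nat.prime_two).1 hk
  obtain ⟨j, hj, rfl⟩ := (Nat.dvd_prime_pow Nat.prime_three).1 hl
  interval_cases i <;> interval_cases j <;> omega

omit [Finite S] in
theorem c7_one {w : S} (h2 : w ^ 2 = 1) (h5 : w ^ 5 = 1) : w = 1 := by
  calc w = w ^ 5 * ((w ^ 2) ^ 2)⁻¹ := by group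
    _ = 1 := by rw [h2, h5]; simp

theorem Fb.c7_ox (F : Fb P z D h a x) : orderOf x = 5 :=
  F.st.ord5 F.xP fun e => F.xD (e ▸ one_mem _)

theorem Fb.c7_sq (F : Fb P z D h a x) {W : Subgroup S} (hW : W ≤ Cz x) {n : ℕ}
    (hc : Nat.card W = 2 ^ n) {w : S} (hw : w ∈ W) : w ^ 2 = 1 := by
  have o : orderOf w ∣ 2 ^ n := hc ▸ W.orderOf_dvd_natCard hw
  rcases F.st.com6 F.c7_ox (mem_Cz.1 (hW hw)) (fun d => by
    have := (by norm_num : Nat.Prime 5).dvd_of_dvd_pow (d.trans o)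
    norm_num at this) with e | e
  · exact e
  · have : orderOf w = 1 := Nat.eq_one_of_dvd_coprimes
      (Nat.Coprime.pow_left n (by norm_num : Nat.Coprime 2 3)) o (orderOf_dvd_of_pow_eq_one e)
    rw [orderOf_eq_one_iff.1 this, one_pow]

theorem Fb.c7_576 (F : Fb P z D h a x) (hc : Nat.card (Cz x) = 28800) : False := by
  obtain ⟨W, hW, cW⟩ := c7_syl 2 (M := Cz x) (n := 7) (by rw [hc]; norm_num)
  have hp : IsPGroup 2 W := IsPGroup.of_card cW
  have hi : ¬ 2 ∣ W.index := by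
    have e := W.card_mul_index
    rw [cW, F.st.card] at e
    omega
  have hh : IsPGroup 2 (zpowers h) := IsPGroup.of_card (n := 2) (by rw [Nat.card_zpowers, F.oh]; norm_num)
  obtain ⟨Q, hQ⟩ := hh.exists_le_sylow
  obtain ⟨g, hg⟩ := MulAction.exists_smul_eq S Q (hp.toSylow hi)
  have a2 : g * h * g⁻¹ ∈ ((g • Q : Sylow 2 S) : Subgroup S) := by
    rw [Sylow.coe_subgroup_smul]
    exact smul_mem_pointwise_smul _ (MulAut.conj g) _ (hQ (mem_zpowers h))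
  rw [hg] at a2
  have e := F.c7_sq hW cW a2
  rw [conj_pow, conj_eq_one_iff] at e
  have := orderOf_dvd_of_pow_eq_one e
  rw [F.oh] at this
  norm_num at this

theorem Fb.c7_25 (F : Fb P z D h a x) {w : S} (h2 : w ^ 2 = 1) (h1 : w ≠ 1) :
    ¬ 25 ∣ Nat.card (Cz w) := by
  intro hd
  obtain ⟨E, hE, cE⟩ := c7_syl 5 (M := Cz w) (n := 2) (by simpa using hd)
  obtain ⟨Q, hQ⟩ := (IsPGroup.of_card cE).exists_le_sylow
  obtain ⟨k, hk⟩ := MulAction.exists_smul_eq S Q P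
  have hD : IsD P (cj k E) := ⟨fun y hy => by
    rw [← hk]; exact a4_mem.2 (hQ (mem_cj.1 hy)), by
    rw [card_map_of_injective (MulAut.conj k).injective, cE]; norm_num⟩
  have hw : k * w * k⁻¹ ∈ Ce (cj k E) := mem_Ce.2 fun y hy => by
    have e := mem_Cz.1 (hE (mem_cj.1 hy))
    calc y * (k * w * k⁻¹) = k * (k⁻¹ * y * k * w) * k⁻¹ := by group
      _ = _ := by rw [e]; group
  rw [F.cD _ hD] at hw
  have e := F.st.pow5 (hD.1 hw)
  rw [conj_pow, conj_eq_one_iff] at e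
  exact h1 (c7_one h2 e)

theorem Fb.c7_7776 (F : Fb P z D h a x) (hc : Nat.card (Cz x) = 388800) : False := by
  obtain ⟨W, hW, cW⟩ := c7_syl 2 (M := Cz x) (n := 6) (by rw [hc]; norm_num)
  have hp : IsPGroup 2 W := IsPGroup.of_card cW
  have sq : ∀ {w : S}, w ∈ W → w ^ 2 = 1 := F.c7_sq hW cW
  have ab : ∀ u ∈ W, ∀ v ∈ W, u * v = v * u := by
    intro u hu v hv
    calc u * v = (u ^ 2)⁻¹ * u * v := by rw [sq hu]; group
      _ = (v * u)⁻¹ * v ^ 2 := by group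
      _ = (v * u)⁻¹ * (v * u) ^ 2 := by rw [sq hv, sq (mul_mem hv hu)]
      _ = v * u := by rw [pow_two, inv_mul_cancel_left]
  have hxN : x ∈ Nm W := centralizer_le_normalizer _ fun y hy => mem_Cz.1 (hW hy)
  have hxx : x ∈ Cz x := mem_Cz.2 rfl
  have d320 : ∀ K : Subgroup S, W ≤ K → x ∈ K → 320 ∣ Nat.card K := by
    intro K h1 h2
    have d1 := card_dvd_of_le h1
    have d2 := K.orderOf_dvd_natCard h2
    rw [cW] at d1
    rw [F.c7_ox] at d2
    exact Nat.Coprime.mul_dvd_of_dvd_of_dvd (by norm_num : Nat.Coprime (2 ^ 6) 5) d1 d2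
  have mem : ∀ y ∈ Cz x, y ∈ Nm W → y ^ 2 = 1 → y ∈ W := by
    intro y h1 h2 h3
    have hy : IsPGroup 2 (zpowers y) := by
      rintro ⟨_, k, rfl⟩
      refine ⟨1, Subtype.ext ?_⟩
      change (y ^ k) ^ 2 ^ 1 = 1
      rw [pow_one, ← zpow_natCast, ← zpow_mul, mul_comm, zpow_mul, zpow_natCast, h3, one_zpow]
    obtain ⟨k, hk⟩ := IsPGroup.iff_card.1 (hy.to_sup_of_normal_right' hp (zpowers_le_of_mem h2))
    have d := card_dvd_of_le (sup_le (zpowers_le_of_mem h1) hW)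
    rw [hk, hc] at d
    have hk6 : k ≤ 6 := by
      by_contra hh
      have := (pow_dvd_pow 2 (show 7 ≤ k by omega)).trans d
      norm_num at this
    have : W = zpowers y ⊔ W := eq_of_le_of_card_ge le_sup_right
      (by rw [hk, cW]; exact Nat.pow_le_pow_right (by norm_num) hk6)
    rw [this]; exact mem_sup_left (mem_zpowers y)
  have ti : ∀ g ∈ Cz x, g ∉ Nm W → cj g W ⊓ W = ⊥ := by
    intro g hg hn
    rw [eq_bot_iff]
    rintro w ⟨w1, w2⟩
    by_contra h1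
    have h1 : w ≠ 1 := h1
    apply hn
    have hWM : W ≤ Cz x ⊓ Cz w := fun y hy => ⟨hW hy, mem_Cz.2 (ab y hy w w2)⟩
    have hxM : x ∈ Cz x ⊓ Cz w := ⟨hxx, mem_Cz.2 (mem_Cz.1 (hW w2)).symm⟩
    obtain ⟨k, hk⟩ := d320 _ hWM hxM
    have d := card_dvd_of_le (inf_le_left : Cz x ⊓ Cz w ≤ Cz x)
    rw [hk, hc] at d
    have dk : k ∣ 3 ^ 5 * 5 := Nat.dvd_of_mul_dvd_mul_left (by norm_num : 0 < 320) (by simpa using d)
    have n3 : ¬ 3 ∣ k := by
      intro d3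
      have : Fact (Nat.Prime 3) := ⟨by norm_num⟩
      obtain ⟨r, hr⟩ := exists_prime_orderOf_dvd_card' (G := (Cz x ⊓ Cz w : Subgroup S)) 3
        (by rw [hk]; exact d3.mul_left _)
      exact F.st.no30 F.c7_ox (orderOf_eq_prime (sq w2) h1) ((orderOf_coe r).trans hr)
        (mem_Cz.1 (hW w2)) (mem_Cz.1 r.2.1) (mem_Cz.1 r.2.2).symm
    have n5 : ¬ 5 ∣ k := by
      rintro ⟨l, rfl⟩
      refine F.c7_25 (sq w2) h1 (Dvd.dvd.trans ?_ (card_dvd_of_le (inf_le_right : Cz x ⊓ Cz w ≤ Cz w)))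
      rw [hk]; exact ⟨64 * l, by ring⟩
    have k1 : k = 1 := Nat.Coprime.eq_one_of_dvd
      ((((Nat.Prime.coprime_iff_not_dvd Nat.prime_three).2 n3).symm.pow_right 5).mul_right
        ((Nat.Prime.coprime_iff_not_dvd (by norm_num : Nat.Prime 5)).2 n5).symm) dk
    have e : Nm W ⊓ (Cz x ⊓ Cz w) = Cz x ⊓ Cz w := eq_of_le_of_card_ge inf_le_right (by
      rw [hk, k1]
      exact Nat.le_of_dvd Nat.card_pos (d320 _ (le_inf le_normalizer hWM) ⟨hxN, hxM⟩))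
    refine mem_normalizer_fintype fun y hy => ?_
    have y1 : g * y * g⁻¹ ∈ Cz x := mul_mem (mul_mem hg (hW hy)) (inv_mem hg)
    have y2 : g * y * g⁻¹ ∈ Cz w := by
      have e := ab y hy _ (mem_cj.1 w1)
      rw [mem_Cz]
      calc g * y * g⁻¹ * w = g * (y * (g⁻¹ * w * g)) * g⁻¹ := by group
        _ = _ := by rw [e]; group
    refine mem _ y1 (inf_eq_right.1 e ⟨y1, y2⟩) ?_
    rw [conj_pow, sq hy]; group
  have hi : ¬ 2 ∣ W.relIndex (Cz x) := by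
    have e := a5b_card W (Cz x)
    rw [inf_eq_left.2 hW, cW, hc] at e
    omega
  have hn := cnt_amb 2 6 (by norm_num) hW hp hi fun g hg hn => by
    rw [← inf_relIndex_right, ti g hg hn, relIndex_bot_left, cW]
  have e := a5b_card (Nm W) (Cz x)
  obtain ⟨k, hk⟩ := d320 (Nm W ⊓ Cz x) (le_inf le_normalizer hW) ⟨hxN, hxx⟩
  rw [hk, hc] at e
  have n1 : (Nm W).relIndex (Cz x) = 1 := by
    generalize (Nm W).relIndex (Cz x) = n at hn e
    have d : n ∣ 1215 := ⟨k, by nlinarith⟩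
    have hle := Nat.le_of_dvd (by norm_num) d
    unfold Nat.ModEq at hn
    obtain ⟨t, rfl⟩ : ∃ t, n = 64 * t + 1 := ⟨n / 64, by omega⟩
    have : t ≤ 19 := by omega
    interval_cases t <;> first | rfl | norm_num at d
  have hz : z ∈ Nm W := relIndex_eq_one.1 n1 (mem_Cz.2 (F.st.zc x F.xP).symm)
  have hf := a5_fix W hz (F.st.pow5 F.st.zP)
  have hb : W ⊓ Cz z = ⊥ := by
    rw [eq_bot_iff]
    rintro w ⟨w1, w2⟩
    have w3 : w ∈ Cz z := w2
    rw [F.cz] at w3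
    exact c7_one (sq w1) (F.st.pow5 w3)
  rw [hb, cW, card_bot] at hf
  exact absurd hf (by decide)

/-- `50 α ∣ 2^7 3^6 5^3` (`cen_dvd`), `5 ∤ α`, so `α ∈ {1, 576, 7776}`. Sylow 2-subgroups `W` of
`C(x)` have exponent 2 (`com6`). `α = 576`: `|W| = 128`, so Sylow 2-subgroups of `S` have
exponent 2, but `o(h) = 4`. `α = 7776`: `|W| = 64`; for an involution `w ∈ W`, `C(x) ⊓ C(w)` has
no element of order 3 (`no30`) and order not divisible by 25 (a subgroup of order 25 is conjugate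
to an `IsD` subgroup, `cD`), so it is `⟨x⟩ W` and `W` is its only Sylow 2-subgroup: `W` is TI in
`C(x)`, `cnt_amb` (`p = 2`, `k = 6`): `n_2 ≡ 1 (mod 64)`, `n_2 ∣ 243 · 25`, and `x ∈ N(W)` gives
`n_2 ∣ 243 · 5`, so `n_2 = 1`; then `z` normalizes `W` and fixes one of its 63 involutions,
against `C(z) = P`. So `|C(x)| = 50 = |N(P) ⊓ C(x)|`. -/
theorem Fb.czx (F : Fb P z D h a x) : Cz x ≤ Nm (P : Subgroup S) := by
  obtain ⟨α, hc, hm⟩ := F.alpha
  have hd := F.st.cen_dvd (u := x) (fun e => F.xD (e ▸ one_mem _)) (by rw [F.c7_ox]; norm_num)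
    (by rw [F.c7_ox]; norm_num)
  rw [hc] at hd
  rcases c7_alpha hd hm with rfl | rfl | rfl
  · exact inf_eq_right.1 (eq_of_le_of_card_ge inf_le_right (by rw [hc, F.card_stabx]))
  · exact (F.c7_576 hc).elim
  · exact (F.c7_7776 hc).elim

end Cfsg.Agent.MCX
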